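import Mathlib.LinearAlgebra.Prod
import Mathlib.LinearAlgebra.Charpoly.Basic
import Mathlib.LinearAlgebra.FiniteDimensional.Lemmas
import Mathlib.RingTheory.LittleWedderburn
import Mathlib.RingTheory.IntegralDomain
import Mathlib.Algebra.Algebra.Subalgebra.Basic

/-! Minimal invariant subspaces of sets of endomorphisms. -/

set_option autoImplicit false
set_option linter.unusedSectionVars false

namespace Cfsg.Agent.PermGp.NFLin

variable {F V : Type*} [Field F] [AddCommGroup V] [Module F V] [Finite V]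

/-- Invariance under a set of endomorphisms. -/
def Inv (S : Set (Module.End F V)) (W : Submodule F V) : Prop := ∀ s ∈ S, ∀ v ∈ W, s v ∈ W

/-- A minimal non-zero invariant subspace. -/
def Minimal (S : Set (Module.End F V)) (W : Submodule F V) : Prop :=
  W ≠ ⊥ ∧ Inv S W ∧ ∀ W' : Submodule F V, W' ≤ W → Inv S W' → W' = ⊥ ∨ W' = W

theorem Inv.inf {S : Set (Module.End F V)} {W W' : Submodule F V} (h : Inv S W) (h' : Inv S W') :
    Inv S (W ⊓ W') := fun s hs v hv =>
  Submodule.mem_inf.mpr ⟨h s hs v (Submodule.mem_inf.mp hv).1, h' s hs v (Submodule.mem_inf.mp hv).2⟩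

theorem Inv.sup {S : Set (Module.End F V)} {W W' : Submodule F V} (h : Inv S W) (h' : Inv S W') :
    Inv S (W ⊔ W') := fun s hs v hv => by
  obtain ⟨a, ha, b, hb, rfl⟩ := Submodule.mem_sup.mp hv
  rw [map_add]
  exact Submodule.add_mem_sup (h s hs a ha) (h' s hs b hb)

theorem exists_minimal_le (S : Set (Module.End F V)) (U : Submodule F V) (hU : U ≠ ⊥) (hI : Inv S U) :
    ∃ W, W ≤ U ∧ Minimal S W := by
  classical
  have hfin : {W : Submodule F V | W ≤ U ∧ W ≠ ⊥ ∧ Inv S W}.Finite := by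
    have : Finite (Submodule F V) := Finite.of_injective _ SetLike.coe_injective
    exact Set.toFinite _
  obtain ⟨W, hW, hmin⟩ := hfin.exists_minimalFor id _ ⟨U, le_rfl, hU, hI⟩
  refine ⟨W, hW.1, hW.2.1, hW.2.2, fun W' hle hI' => ?_⟩
  by_cases h : W' = ⊥
  · exact Or.inl h
  · exact Or.inr (le_antisymm hle (hmin ⟨hle.trans hW.1, h, hI'⟩ hle))

/-- The endomorphisms of a subspace commuting with the restrictions of `S`. -/
def commutant (S : Set (Module.End F V)) (W : Submodule F V) : Subalgebra F (Module.End F W) :=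
  Subalgebra.centralizer F {t : Module.End F W | ∃ s ∈ S, ∀ w : W, (t w : V) = s (w : V)}

theorem mem_commutant {S : Set (Module.End F V)} {W : Submodule F V} (hI : Inv S W) {f : Module.End F W} :
    f ∈ commutant S W ↔ ∀ s ∈ S, ∀ w w' : W, (w' : V) = s (w : V) → (f w' : V) = s (f w : V) := by
  rw [commutant, Subalgebra.mem_centralizer_iff]
  constructor
  · intro h s hs w w' hw
    have h1 := LinearMap.congr_fun (h (s.restrict (hI s hs)) ⟨s, hs, fun _ => rfl⟩) w
    rw [Module.End.mul_apply, Module.End.mul_apply] at h1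
    rw [show w' = s.restrict (hI s hs) w from Subtype.ext hw, ← h1]
    rfl
  · rintro h t ⟨s, hs, ht⟩
    refine LinearMap.ext fun w => Subtype.ext ?_
    rw [Module.End.mul_apply, Module.End.mul_apply, ht, h s hs w (t w) (ht w)]

theorem commutant_injective {S : Set (Module.End F V)} {W : Submodule F V} (hW : Minimal S W)
    {f : Module.End F W} (hf : f ∈ commutant S W) (hne : f ≠ 0) : Function.Injective f := by
  rw [← LinearMap.ker_eq_bot]
  have hI : Inv S ((LinearMap.ker f).map W.subtype) := by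
    rintro s hs _ ⟨w, hw, rfl⟩
    refine ⟨⟨s (w : V), hW.2.1 s hs w w.2⟩, ?_, rfl⟩
    refine Subtype.ext ?_
    rw [(mem_commutant hW.2.1).mp hf s hs w ⟨_, _⟩ rfl, show f w = 0 from hw]
    simp
  rcases hW.2.2 _ (Submodule.map_subtype_le _ _) hI with h | h
  · exact Submodule.map_injective_of_injective W.subtype_injective (h.trans (Submodule.map_bot _).symm)
  · exfalso
    refine hne (LinearMap.ext fun w => ?_)
    have hw : (w : V) ∈ (LinearMap.ker f).map W.subtype := by rw [h]; exact w.2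
    obtain ⟨w', hw', he⟩ := hw
    rw [show w = w' from W.subtype_injective he.symm]
    exact hw'

theorem commutant_noZeroDivisors {S : Set (Module.End F V)} {W : Submodule F V} (hW : Minimal S W) :
    NoZeroDivisors (commutant S W) := by
  refine ⟨fun {a b} hab => ?_⟩
  by_contra! h
  refine h.2 (Subtype.ext (LinearMap.ext fun w => ?_))
  have h1 : (a : Module.End F W) ((b : Module.End F W) w) = 0 :=
    LinearMap.congr_fun (congrArg Subtype.val hab) w
  exact commutant_injective hW a.2 (fun e => h.1 (Subtype.ext e)) (h1.trans (map_zero _).symm)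

/-- The commutant of a minimal subspace is commutative. -/
theorem commutant_comm {S : Set (Module.End F V)} {W : Submodule F V} (hW : Minimal S W)
    (a b : commutant S W) : a * b = b * a := by
  obtain ⟨w, hw, hw0⟩ := Submodule.exists_mem_ne_zero_of_ne_bot hW.1
  have : Finite (Module.End F W) := Finite.of_injective (fun f => (f : W → W)) DFunLike.coe_injective
  have : Nontrivial (commutant S W) := ⟨⟨1, 0, fun h => hw0 (by
    have := LinearMap.congr_fun (congrArg Subtype.val h) ⟨w, hw⟩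
    exact congrArg Subtype.val this)⟩⟩
  have := commutant_noZeroDivisors hW
  have : IsDomain (commutant S W) := @NoZeroDivisors.to_isDomain _ (Subalgebra.toRing _) _ _
  exact (Finite.isDomain_to_isField (commutant S W)).mul_comm a b

/-- A map to another minimal subspace matching two given vectors, provided every vector lies in a
minimal subspace. -/
theorem exists_transfer {S : Set (Module.End F V)}
    (hcov : ∀ v : V, v ≠ 0 → ∃ W, Minimal S W ∧ v ∈ W)
    {W₀ W₁ : Submodule F V} (h0 : Minimal S W₀) (h1 : Minimal S W₁) (hne : W₀ ≠ W₁)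
    {v u : V} (hv : v ∈ W₀) (hu : u ∈ W₁) (hv0 : v ≠ 0) (hu0 : u ≠ 0) :
    ∃ g : W₀ ≃ₗ[F] W₁, (g ⟨v, hv⟩ : V) = u ∧
      ∀ s ∈ S, ∀ w w' : W₀, (w' : V) = s (w : V) → (g w' : V) = s (g w : V) := by
  have hdisj : W₀ ⊓ W₁ = ⊥ := by
    rcases h0.2.2 _ inf_le_left (h0.2.1.inf h1.2.1) with h | h
    · exact h
    · rcases h1.2.2 _ inf_le_right (h0.2.1.inf h1.2.1) with h' | h'
      · exact h'
      · exact absurd (h.symm.trans h') hne
  have hvu : v + u ≠ 0 := fun h => by
    have hmem : v ∈ W₀ ⊓ W₁ := Submodule.mem_inf.mpr ⟨hv, by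
      rw [eq_neg_of_add_eq_zero_left h]; exact W₁.neg_mem hu⟩
    rw [hdisj, Submodule.mem_bot] at hmem
    exact hv0 hmem
  obtain ⟨T, hT, hT'⟩ := hcov _ hvu
  have hTle : T ≤ W₀ ⊔ W₁ := by
    rcases hT.2.2 _ inf_le_left (hT.2.1.inf (h0.2.1.sup h1.2.1)) with h | h
    · have : v + u ∈ T ⊓ (W₀ ⊔ W₁) := Submodule.mem_inf.mpr ⟨hT', Submodule.add_mem_sup hv hu⟩
      rw [h, Submodule.mem_bot] at this
      exact absurd this hvu
    · exact h.symm.le.trans inf_le_right
  have hT1 : T ⊓ W₁ = ⊥ := by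
    rcases hT.2.2 _ inf_le_left (hT.2.1.inf h1.2.1) with h | h
    · exact h
    · exfalso
      have h2 : v + u ∈ W₁ := (Submodule.mem_inf.mp (h.symm ▸ hT' : v + u ∈ T ⊓ W₁)).2
      have : v ∈ W₀ ⊓ W₁ := Submodule.mem_inf.mpr ⟨hv, by simpa using W₁.sub_mem h2 hu⟩
      rw [hdisj, Submodule.mem_bot] at this
      exact hv0 this
  let e : (W₀ × W₁) →ₗ[F] V := W₀.subtype.coprod W₁.subtype
  let T' : Submodule F (W₀ × W₁) := T.comap e
  let f : T' →ₗ[F] W₀ := (LinearMap.fst F W₀ W₁).comp T'.subtype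
  have hfinj : Function.Injective f := by
    rw [← LinearMap.ker_eq_bot, Submodule.eq_bot_iff]
    rintro ⟨⟨a, b⟩, hab⟩ ha
    have ha' : a = 0 := ha
    subst ha'
    have hb : (b : V) ∈ T ⊓ W₁ := Submodule.mem_inf.mpr ⟨by simpa [T', e] using hab, b.2⟩
    rw [hT1, Submodule.mem_bot] at hb
    have : b = 0 := Subtype.ext hb
    subst this
    rfl
  have hfsurj : Function.Surjective f := by
    rw [← LinearMap.range_eq_top]
    have hI : Inv S ((LinearMap.range f).map W₀.subtype) := by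
      rintro s hs _ ⟨_, ⟨⟨⟨a, b⟩, hab⟩, rfl⟩, rfl⟩
      refine ⟨⟨s a, h0.2.1 s hs a a.2⟩, ⟨⟨(⟨s a, h0.2.1 s hs a a.2⟩, ⟨s b, h1.2.1 s hs b b.2⟩), ?_⟩, rfl⟩, rfl⟩
      show s (a : V) + s (b : V) ∈ T
      rw [← map_add]
      exact hT.2.1 s hs _ hab
    rcases h0.2.2 _ (Submodule.map_subtype_le _ _) hI with h | h
    · exfalso
      have : (v : V) ∈ (LinearMap.range f).map W₀.subtype :=
        ⟨⟨v, hv⟩, ⟨⟨(⟨v, hv⟩, ⟨u, hu⟩), hT'⟩, rfl⟩, rfl⟩
      rw [h, Submodule.mem_bot] at this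
      exact hv0 this
    · refine Submodule.map_injective_of_injective W₀.subtype_injective ?_
      rw [h, Submodule.map_subtype_top]
  let ef := LinearEquiv.ofBijective f ⟨hfinj, hfsurj⟩
  let g : W₀ →ₗ[F] W₁ := ((LinearMap.snd F W₀ W₁).comp T'.subtype).comp ef.symm.toLinearMap
  have hg : ∀ (a : W₀) (b : W₁), (a : V) + (b : V) ∈ T → g a = b := fun a b hab => by
    have : ef.symm a = ⟨(a, b), hab⟩ := ef.injective (by rw [LinearEquiv.apply_symm_apply]; rfl)
    show ((ef.symm a : T') : W₀ × W₁).2 = b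
    rw [this]
  have hgmem : ∀ a : W₀, (a : V) + (g a : V) ∈ T := fun a => by
    obtain ⟨⟨⟨a', b⟩, hab⟩, rfl⟩ := hfsurj a
    show ((a' : V) + (g a' : V)) ∈ T
    rw [hg a' b hab]
    exact hab
  have hequi : ∀ s ∈ S, ∀ w w' : W₀, (w' : V) = s (w : V) → (g w' : V) = s (g w : V) := by
    intro s hs w w' hw
    rw [hg w' ⟨s (g w : V), h1.2.1 s hs _ (g w).2⟩ (by
      rw [hw, ← map_add]; exact hT.2.1 s hs _ (hgmem w))]
  have hgv : g ⟨v, hv⟩ = ⟨u, hu⟩ := hg _ _ hT'
  have hgsurj : Function.Surjective g := by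
    rw [← LinearMap.range_eq_top]
    have hI : Inv S ((LinearMap.range g).map W₁.subtype) := by
      rintro s hs _ ⟨_, ⟨w, rfl⟩, rfl⟩
      exact ⟨g ⟨s w, h0.2.1 s hs w w.2⟩, ⟨_, rfl⟩, hequi s hs w ⟨_, _⟩ rfl⟩
    rcases h1.2.2 _ (Submodule.map_subtype_le _ _) hI with h | h
    · exfalso
      have : u ∈ (LinearMap.range g).map W₁.subtype := ⟨g ⟨v, hv⟩, ⟨_, rfl⟩, by rw [hgv]; rfl⟩
      rw [h, Submodule.mem_bot] at this
      exact hu0 this
    · refine Submodule.map_injective_of_injective W₁.subtype_injective ?_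
      rw [h, Submodule.map_subtype_top]
  have hginj : Function.Injective g := by
    rw [← LinearMap.ker_eq_bot]
    have hI : Inv S ((LinearMap.ker g).map W₀.subtype) := by
      rintro s hs _ ⟨w, hw, rfl⟩
      refine ⟨⟨s w, h0.2.1 s hs w w.2⟩, Subtype.ext ?_, rfl⟩
      rw [hequi s hs w ⟨_, _⟩ rfl, show g w = 0 from hw]
      simp
    rcases h0.2.2 _ (Submodule.map_subtype_le _ _) hI with h | h
    · exact Submodule.map_injective_of_injective W₀.subtype_injective (h.trans (Submodule.map_bot _).symm)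
    · exfalso
      have : v ∈ (LinearMap.ker g).map W₀.subtype := by rw [h]; exact hv
      obtain ⟨w, hw, he⟩ := this
      have hw' : g w = 0 := hw
      rw [show w = ⟨v, hv⟩ from Subtype.ext he, hgv] at hw'
      exact hu0 (congrArg Subtype.val hw')
  exact ⟨LinearEquiv.ofBijective g ⟨hginj, hgsurj⟩, congrArg Subtype.val hgv, hequi⟩

/-- If every vector lies in a minimal subspace and the space is not minimal, then `S` acts on each
minimal subspace through the commutant; in particular any two elements of `S` commute there. -/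
theorem comm_on_minimal {S : Set (Module.End F V)} (hcov : ∀ v : V, v ≠ 0 → ∃ W, Minimal S W ∧ v ∈ W)
    {W₀ : Submodule F V} (h0 : Minimal S W₀) (hne : W₀ ≠ ⊤) {s t : Module.End F V} (hs : s ∈ S) (ht : t ∈ S)
    {v : V} (hv : v ∈ W₀) : s (t v) = t (s v) := by
  by_cases hv0 : v = 0
  · simp [hv0]
  obtain ⟨u, hu⟩ : ∃ u : V, u ∉ W₀ := by
    by_contra! h
    exact hne (eq_top_iff.mpr fun x _ => h x)
  have hu0 : u ≠ 0 := fun e => hu (e ▸ W₀.zero_mem)
  obtain ⟨W₁, h1, huW⟩ := hcov u hu0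
  have hne' : W₀ ≠ W₁ := fun e => hu (e ▸ huW)
  have key : ∀ r ∈ S, ∃ ψ : commutant S W₀, (((ψ : Module.End F W₀) ⟨v, hv⟩ : W₀) : V) = r v := by
    intro r hr
    by_cases hrv : r v = 0
    · exact ⟨0, by simp [hrv]⟩
    obtain ⟨g, hgv, hg⟩ := exists_transfer hcov h0 h1 hne' hv huW hv0 hu0
    obtain ⟨g', hgv', hg'⟩ := exists_transfer hcov h0 h1 hne' (h0.2.1 r hr v hv) huW hrv hu0
    refine ⟨⟨(g.trans g'.symm).toLinearMap, ?_⟩, ?_⟩
    · rw [mem_commutant h0.2.1]
      intro q hq w w' hw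
      show ((g'.symm (g w') : W₀) : V) = q (g'.symm (g w) : V)
      have h2 : g' ⟨q (g'.symm (g w) : V), h0.2.1 q hq _ (g'.symm (g w)).2⟩ = g w' := Subtype.ext (by
        rw [hg' q hq (g'.symm (g w)) ⟨_, _⟩ rfl, LinearEquiv.apply_symm_apply, hg q hq w w' hw])
      rw [← h2, LinearEquiv.symm_apply_apply]
    · show ((g'.symm (g ⟨v, hv⟩) : W₀) : V) = r v
      rw [show g ⟨v, hv⟩ = g' ⟨r v, h0.2.1 r hr v hv⟩ from Subtype.ext (hgv.trans hgv'.symm),
        LinearEquiv.symm_apply_apply]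
  obtain ⟨a, ha⟩ := key s hs
  obtain ⟨b, hb⟩ := key t ht
  have h1 : (((a * b : commutant S W₀) : Module.End F W₀) ⟨v, hv⟩ : V) = t (s v) := by
    show (((a : Module.End F W₀) ((b : Module.End F W₀) ⟨v, hv⟩) : W₀) : V) = _
    rw [(mem_commutant h0.2.1).mp a.2 t ht ⟨v, hv⟩ _ hb, ha]
  have h2 : (((b * a : commutant S W₀) : Module.End F W₀) ⟨v, hv⟩ : V) = s (t v) := by
    show (((b : Module.End F W₀) ((a : Module.End F W₀) ⟨v, hv⟩) : W₀) : V) = _
    rw [(mem_commutant h0.2.1).mp b.2 s hs ⟨v, hv⟩ _ ha, hb]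
  rw [← h1, ← h2, commutant_comm h0]

end Cfsg.Agent.PermGp.NFLin
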