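import Mathlib.GroupTheory.GroupAction.Quotient
import Mathlib.GroupTheory.Subgroup.Centralizer
import Mathlib.Data.ZMod.Basic
import Mathlib.RingTheory.IntegralDomain
import Mathlib.LinearAlgebra.Dimension.Free
import Mathlib.FieldTheory.Finiteness
import Mathlib.Tactic
import Cfsg.Agent.Lib.PermGp.NearFieldLinear.Minimal

/-! Linear groups over a prime field that are regular on the non-zero vectors. -/

set_option autoImplicit false
set_option linter.unusedSectionVars false

namespace Cfsg.Agent.PermGp.NFLin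

variable {p : ℕ} [Fact p.Prime] {V : Type*} [AddCommGroup V] [Module (ZMod p) V] [Finite V]
  {H : Subgroup (V ≃ₗ[ZMod p] V)}

/-- Regularity on the non-zero vectors. -/
def RegNZ (H : Subgroup (V ≃ₗ[ZMod p] V)) : Prop :=
  ∀ v w : V, v ≠ 0 → w ≠ 0 → ∃! h : H, (h : V ≃ₗ[ZMod p] V) v = w

/-- The endomorphism given by an element. -/
def op (h : H) : Module.End (ZMod p) V := (h : V ≃ₗ[ZMod p] V).toLinearMap

@[simp] theorem op_apply (h : H) (v : V) : op h v = (h : V ≃ₗ[ZMod p] V) v := rfl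

theorem op_mul (a b : H) : op (a * b) = op a * op b := rfl

theorem op_one : op (1 : H) = 1 := rfl

theorem op_pow (a : H) (n : ℕ) : op (a ^ n) = op a ^ n := by
  induction n with
  | zero => rw [pow_zero, pow_zero]; rfl
  | succ n ih => rw [pow_succ, pow_succ, op_mul, ih]

theorem op_inv_apply (a : H) (v : V) : op a (op a⁻¹ v) = v := by
  rw [← Module.End.mul_apply, ← op_mul, mul_inv_cancel, op_one, Module.End.one_apply]

/-- The endomorphisms given by a subgroup. -/
def ops (B : Subgroup H) : Set (Module.End (ZMod p) V) := op '' (B : Set H)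

theorem inv_ops {B : Subgroup H} {W : Submodule (ZMod p) V} :
    Inv (ops B) W ↔ ∀ a ∈ B, ∀ v ∈ W, ((a : H) : V ≃ₗ[ZMod p] V) v ∈ W := by
  constructor
  · exact fun h a ha v hv => h (op a) ⟨a, ha, rfl⟩ v hv
  · rintro h _ ⟨a, ha, rfl⟩ v hv
    exact h a ha v hv

theorem inv_top (S : Set (Module.End (ZMod p) V)) : Inv S (⊤ : Submodule (ZMod p) V) :=
  fun _ _ _ _ => Submodule.mem_top

theorem eq_of_apply_eq (hreg : RegNZ H) {a b : H} {v : V} (hv : v ≠ 0) (h : op a v = op b v) : a = b := by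
  have hw : op b v ≠ 0 := fun e => hv (by
    rw [op_apply] at e
    exact (b : V ≃ₗ[ZMod p] V).map_eq_zero_iff.mp e)
  exact (hreg v (op b v) hv hw).unique h rfl

theorem eq_one_of_fixed (hreg : RegNZ H) {a : H} {v : V} (hv : v ≠ 0) (h : op a v = v) : a = 1 :=
  eq_of_apply_eq hreg hv (h.trans (by rw [op_one, Module.End.one_apply]))

theorem exists_ne_zero_of_ne_bot {W : Submodule (ZMod p) V} (h : W ≠ ⊥) : ∃ v : V, v ∈ W ∧ v ≠ 0 :=
  Submodule.exists_mem_ne_zero_of_ne_bot h

theorem cover (hreg : RegNZ H) (N : Subgroup H) [hN : N.Normal] {v : V} (hv : v ≠ 0) :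
    ∃ W, Minimal (ops N) W ∧ v ∈ W := by
  obtain ⟨W, -, hW⟩ := exists_minimal_le (ops N) ⊤ (fun e => hv (by
    have : v ∈ (⊤ : Submodule (ZMod p) V) := Submodule.mem_top
    rwa [e, Submodule.mem_bot] at this)) (inv_top _)
  obtain ⟨w, hw, hw0⟩ := Submodule.exists_mem_ne_zero_of_ne_bot hW.1
  obtain ⟨h, hh, -⟩ := hreg w v hw0 hv
  have key : ∀ (g : H) (X : Submodule (ZMod p) V), Inv (ops N) X → Inv (ops N) (X.map (op g)) := by
    rintro g X hX _ ⟨n, hn, rfl⟩ _ ⟨x, hx, rfl⟩
    refine ⟨op (g⁻¹ * n * g) x, hX _ ⟨_, by simpa using hN.conj_mem n hn g⁻¹, rfl⟩ x hx, ?_⟩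
    rw [← Module.End.mul_apply, ← op_mul, ← Module.End.mul_apply, ← op_mul]
    congr 2
    group
  refine ⟨W.map (op h), ⟨?_, key h W hW.2.1, ?_⟩, ⟨w, hw, hh⟩⟩
  · intro e
    have : op h w ∈ W.map (op h) := ⟨w, hw, rfl⟩
    rw [e, Submodule.mem_bot, op_apply, hh] at this
    exact hv this
  · intro X hX hI
    have h2 : ∀ Y : Submodule (ZMod p) V, (Y.map (op h⁻¹)).map (op h) = Y := fun Y => by
      rw [← Submodule.map_comp]
      refine le_antisymm ?_ ?_
      · rintro _ ⟨y, hy, rfl⟩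
        simpa [op_inv_apply] using hy
      · exact fun y hy => ⟨y, hy, op_inv_apply h y⟩
    rcases hW.2.2 (X.map (op h⁻¹)) (by
      rintro _ ⟨x, hx, rfl⟩
      obtain ⟨y, hy, rfl⟩ := hX hx
      rw [← Module.End.mul_apply, ← op_mul, inv_mul_cancel, op_one, Module.End.one_apply]
      exact hy) (key h⁻¹ X hI) with e | e
    · exact Or.inl (by rw [← h2 X, e, Submodule.map_bot])
    · exact Or.inr (by rw [← h2 X, e])

/-- Elements centralising `B` and stabilising `W` act through the commutant. -/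
theorem exists_hom_commutant (hreg : RegNZ H) (B : Subgroup H) {W : Submodule (ZMod p) V}
    (hW : Inv (ops B) W) (hne : W ≠ ⊥) (K : Subgroup H) (hK : Inv (ops K) W)
    (hc : ∀ k ∈ K, ∀ b ∈ B, k * b = b * k) :
    ∃ f : K →* commutant (ops B) W, Function.Injective f ∧
      ∀ (k : K) (w : W), ((f k : Module.End (ZMod p) W) w : V) = op (k : H) w := by
  let f : K → commutant (ops B) W := fun k =>
    ⟨(op (k : H)).restrict (hK _ ⟨k, k.2, rfl⟩), (mem_commutant hW).mpr (by
      rintro _ ⟨b, hb, rfl⟩ w w' hw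
      show op (k : H) (w' : V) = op b (op (k : H) (w : V))
      rw [hw, ← Module.End.mul_apply, ← op_mul, ← Module.End.mul_apply, ← op_mul, hc _ k.2 b hb])⟩
  refine ⟨{ toFun := f, map_one' := ?_, map_mul' := ?_ }, ?_, fun k w => rfl⟩
  · exact Subtype.ext (LinearMap.ext fun w => Subtype.ext rfl)
  · exact fun a b => Subtype.ext (LinearMap.ext fun w => Subtype.ext rfl)
  · intro a b hab
    obtain ⟨v, hv, hv0⟩ := Submodule.exists_mem_ne_zero_of_ne_bot hne
    have h1 := LinearMap.congr_fun (congrArg Subtype.val hab) ⟨v, hv⟩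
    exact Subtype.ext (eq_of_apply_eq hreg hv0 (congrArg Subtype.val h1))

/-- A subgroup centralising `B` and stabilising a minimal subspace for `B` is cyclic. -/
theorem isCyclic_of_minimal (hreg : RegNZ H) (B : Subgroup H) {W : Submodule (ZMod p) V}
    (hW : Minimal (ops B) W) (K : Subgroup H) (hK : Inv (ops K) W)
    (hc : ∀ k ∈ K, ∀ b ∈ B, k * b = b * k) : IsCyclic K := by
  obtain ⟨f, hf, -⟩ := exists_hom_commutant hreg B hW.2.1 hW.1 K hK hc
  letI : CommRing (commutant (ops B) W) :=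
    { (inferInstance : Ring (commutant (ops B) W)) with mul_comm := commutant_comm hW }
  obtain ⟨w, hw, hw0⟩ := Submodule.exists_mem_ne_zero_of_ne_bot hW.1
  haveI : Nontrivial (commutant (ops B) W) := ⟨⟨1, 0, fun h => hw0 (by
    have := LinearMap.congr_fun (congrArg Subtype.val h) ⟨w, hw⟩
    exact congrArg Subtype.val this)⟩⟩
  haveI := commutant_noZeroDivisors hW
  haveI : IsDomain (commutant (ops B) W) := NoZeroDivisors.to_isDomain _
  haveI : Finite H := Finite.of_injective (fun g => ((g : V ≃ₗ[ZMod p] V) : V → V))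
    (fun a b h => Subtype.ext (DFunLike.coe_injective h))
  exact isCyclic_of_injective_ringHom f hf

theorem finite_group : Finite H :=
  Finite.of_injective (fun g => ((g : V ≃ₗ[ZMod p] V) : V → V))
    (fun a b h => Subtype.ext (DFunLike.coe_injective h))

/-- An abelian subgroup is cyclic. -/
theorem isCyclic_of_comm (hreg : RegNZ H) (A : Subgroup H) (hA : ∀ a ∈ A, ∀ b ∈ A, a * b = b * a) :
    IsCyclic A := by
  rcases subsingleton_or_nontrivial V with h | h
  · haveI : Subsingleton A := ⟨fun a b => Subtype.ext (Subtype.ext (LinearEquiv.ext fun v =>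
      Subsingleton.elim _ _))⟩
    exact isCyclic_of_subsingleton
  · obtain ⟨W, -, hW⟩ := exists_minimal_le (ops A) ⊤ top_ne_bot (inv_top _)
    exact isCyclic_of_minimal hreg A hW A hW.2.1 hA

theorem natCard_submodule (W : Submodule (ZMod p) V) :
    Nat.card W = p ^ Module.finrank (ZMod p) W := by
  rw [Module.natCard_eq_pow_finrank (K := ZMod p), Nat.card_zmod]

theorem natCard_space : Nat.card V = p ^ Module.finrank (ZMod p) V := by
  rw [Module.natCard_eq_pow_finrank (K := ZMod p), Nat.card_zmod]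

theorem natCard_ne_zero' {X : Type*} [Zero X] [Finite X] :
    Nat.card {v : X // v ≠ 0} = Nat.card X - 1 := by
  classical
  haveI := Fintype.ofFinite X
  rw [Nat.card_eq_fintype_card, Nat.card_eq_fintype_card,
    Fintype.card_subtype_compl (fun v : X => v = 0), Fintype.card_subtype_eq]

theorem natCard_group (hreg : RegNZ H) [Nontrivial V] :
    Nat.card H = p ^ Module.finrank (ZMod p) V - 1 := by
  obtain ⟨v, hv⟩ := exists_ne (0 : V)
  rw [← natCard_space, ← natCard_ne_zero']
  refine Nat.card_eq_of_bijective (fun h : H => ⟨op h v, fun e => hv (by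
    rw [op_apply] at e
    exact (h : V ≃ₗ[ZMod p] V).map_eq_zero_iff.mp e)⟩) ⟨?_, ?_⟩
  · exact fun a b h => eq_of_apply_eq hreg hv (congrArg Subtype.val h)
  · rintro ⟨w, hw⟩
    obtain ⟨h, hh, -⟩ := hreg v w hv hw
    exact ⟨h, Subtype.ext hh⟩

theorem card_dvd_pow_finrank_sub_one (hreg : RegNZ H) (B : Subgroup H) {W : Submodule (ZMod p) V}
    (hW : Inv (ops B) W) : Nat.card B ∣ p ^ Module.finrank (ZMod p) W - 1 := by
  classical
  rw [← natCard_submodule, ← natCard_ne_zero']
  letI : MulAction B {v : W // v ≠ 0} :=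
    { smul := fun b v => ⟨⟨op (b : H) v.1, hW _ ⟨b, b.2, rfl⟩ _ v.1.2⟩, fun e => v.2 (Subtype.ext (by
        have e' : op (b : H) (v.1 : V) = 0 := congrArg Subtype.val e
        rw [op_apply] at e'
        exact ((b : H) : V ≃ₗ[ZMod p] V).map_eq_zero_iff.mp e'))⟩
      one_smul := fun v => Subtype.ext (Subtype.ext rfl)
      mul_smul := fun a b v => Subtype.ext (Subtype.ext rfl) }
  have hfree : ∀ v : {v : W // v ≠ 0}, MulAction.stabilizer B v = ⊥ := fun v => by
    rw [Subgroup.eq_bot_iff_forall]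
    intro b hb
    have h1 : op (b : H) (v.1 : V) = (v.1 : V) :=
      congrArg (fun z => ((z.1 : W) : V)) (MulAction.mem_stabilizer_iff.mp hb)
    exact Subtype.ext (eq_one_of_fixed hreg (fun e => v.2 (Subtype.ext e)) h1)
  rw [Nat.card_congr (MulAction.selfEquivOrbitsQuotientProd hfree), Nat.card_prod]
  exact Dvd.intro_left _ rfl

/-- A non-commutative normal subgroup is irreducible. -/
theorem irreducible_of_noncomm (hreg : RegNZ H) (N : Subgroup H) [N.Normal]
    (hna : ¬ ∀ a ∈ N, ∀ b ∈ N, a * b = b * a) (W : Submodule (ZMod p) V) (hW : Inv (ops N) W) :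
    W = ⊥ ∨ W = ⊤ := by
  by_contra! h
  refine hna fun a ha b hb => ?_
  obtain ⟨W₀, hle, h0⟩ := exists_minimal_le (ops N) W h.1 hW
  obtain ⟨v, hv, hv0⟩ := Submodule.exists_mem_ne_zero_of_ne_bot h0.1
  have hne : W₀ ≠ ⊤ := fun e => h.2 (eq_top_iff.mpr (e ▸ hle))
  refine eq_of_apply_eq hreg hv0 ?_
  rw [op_mul, op_mul, Module.End.mul_apply, Module.End.mul_apply]
  exact comm_on_minimal (fun v hv => cover hreg N hv) h0 hne ⟨a, ha, rfl⟩ ⟨b, hb, rfl⟩ hv

theorem minimal_top [Nontrivial V] {S : Set (Module.End (ZMod p) V)}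
    (h : ∀ W : Submodule (ZMod p) V, Inv S W → W = ⊥ ∨ W = ⊤) : Minimal S ⊤ :=
  ⟨top_ne_bot, inv_top _, fun W _ hW => h W hW⟩

end Cfsg.Agent.PermGp.NFLin
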