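import Mathlib.LinearAlgebra.Charpoly.Basic
import Mathlib.GroupTheory.Index
import Mathlib.Algebra.Polynomial.Roots
import Cfsg.Agent.Lib.PermGp.NearFieldLinear.Setup

/-! Abelian normal subgroups of linear groups regular on the non-zero vectors. -/

set_option autoImplicit false
set_option linter.unusedSectionVars false

open Polynomial

namespace Cfsg.Agent.PermGp.NFLin

variable {p : ℕ} [Fact p.Prime] {V : Type*} [AddCommGroup V] [Module (ZMod p) V] [Finite V]
  {H : Subgroup (V ≃ₗ[ZMod p] V)}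

/-- No cyclic normal subgroup is irreducible. -/
def Exceptional (H : Subgroup (V ≃ₗ[ZMod p] V)) : Prop :=
  ∀ A : Subgroup H, A.Normal → IsCyclic A →
    ∃ W : Submodule (ZMod p) V, W ≠ ⊥ ∧ W ≠ ⊤ ∧ ∀ a ∈ A, ∀ v ∈ W, ((a : H) : V ≃ₗ[ZMod p] V) v ∈ W

theorem comm_of_isMulCommutative {G : Type*} [Group G] {A : Subgroup G} (hA : IsMulCommutative A) :
    ∀ a ∈ A, ∀ b ∈ A, a * b = b * a := fun a ha b hb =>
  congrArg Subtype.val (isMulCommutative_iff.mp hA ⟨a, ha⟩ ⟨b, hb⟩)

theorem isMulCommutative_of_comm {G : Type*} [Group G] {A : Subgroup G}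
    (hA : ∀ a ∈ A, ∀ b ∈ A, a * b = b * a) : IsMulCommutative A :=
  isMulCommutative_iff.mpr fun a b => Subtype.ext (hA a a.2 b b.2)

theorem exists_reducible_minimal (hreg : RegNZ H) (hI : Exceptional H) (A : Subgroup H) [A.Normal]
    (hA : ∀ a ∈ A, ∀ b ∈ A, a * b = b * a) :
    ∃ W₀, Minimal (ops A) W₀ ∧ W₀ ≠ ⊤ := by
  obtain ⟨W, hW0, hW1, hW⟩ := hI A ‹_› (isCyclic_of_comm hreg A hA)
  obtain ⟨W₀, hle, h0⟩ := exists_minimal_le (ops A) W hW0 (inv_ops.mpr hW)
  exact ⟨W₀, h0, fun e => hW1 (eq_top_iff.mpr (e ▸ hle))⟩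

theorem aeval_intertwine {F W U : Type*} [Field F] [AddCommGroup W] [Module F W] [AddCommGroup U]
    [Module F U] (α : Module.End F W) (a : Module.End F U) (ι : W →ₗ[F] U)
    (h : ∀ w, ι (α w) = a (ι w)) (f : F[X]) (w : W) : ι (aeval α f w) = aeval a f (ι w) := by
  induction f using Polynomial.induction_on' generalizing w with
  | add g g' hg hg' => simp [hg, hg']
  | monomial n c =>
    simp only [aeval_monomial, Module.End.mul_apply, Module.algebraMap_end_apply, map_smul]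
    congr 1
    induction n generalizing w with
    | zero => simp
    | succ n ih => rw [pow_succ, pow_succ, Module.End.mul_apply, Module.End.mul_apply, ih, h]

theorem exists_intertwine (hreg : RegNZ H) (A : Subgroup H) [A.Normal] {W₀ : Submodule (ZMod p) V}
    (h0 : Minimal (ops A) W₀) (v : V) :
    ∃ ι : W₀ →ₗ[ZMod p] V, v ∈ LinearMap.range ι ∧
      ∀ a ∈ A, ∀ w w' : W₀, (w' : V) = op a (w : V) → ι w' = op a (ι w) := by
  by_cases hv : v ∈ W₀
  · exact ⟨W₀.subtype, ⟨⟨v, hv⟩, rfl⟩, fun a _ w w' h => h⟩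
  · obtain ⟨w, hw, hw0⟩ := Submodule.exists_mem_ne_zero_of_ne_bot h0.1
    have hv0 : v ≠ 0 := fun e => hv (e ▸ W₀.zero_mem)
    obtain ⟨W₁, h1, hv1⟩ := cover hreg A hv0
    obtain ⟨g, hg, hequi⟩ := exists_transfer (fun u hu => cover hreg A hu) h0 h1
      (fun e => hv (e ▸ hv1)) hw hv1 hw0 hv0
    exact ⟨W₁.subtype.comp g.toLinearMap, ⟨⟨w, hw⟩, hg⟩,
      fun a ha u u' hu => hequi _ ⟨a, ha, rfl⟩ u u' hu⟩

theorem two_mul_finrank_le (hreg : RegNZ H) (A : Subgroup H) [A.Normal] {W₀ : Submodule (ZMod p) V}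
    (h0 : Minimal (ops A) W₀) (hne : W₀ ≠ ⊤) :
    2 * Module.finrank (ZMod p) W₀ ≤ Module.finrank (ZMod p) V := by
  obtain ⟨v, hv⟩ : ∃ v : V, v ∉ W₀ := by
    by_contra! h
    exact hne (eq_top_iff.mpr fun x _ => h x)
  have hv0 : v ≠ 0 := fun e => hv (e ▸ W₀.zero_mem)
  obtain ⟨w, hw, hw0⟩ := Submodule.exists_mem_ne_zero_of_ne_bot h0.1
  obtain ⟨W₁, h1, hv1⟩ := cover hreg A hv0
  have hne' : W₀ ≠ W₁ := fun e => hv (e ▸ hv1)
  obtain ⟨g, -, -⟩ := exists_transfer (fun u hu => cover hreg A hu) h0 h1 hne' hw hv1 hw0 hv0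
  have hd : W₀ ⊓ W₁ = ⊥ := by
    rcases h0.2.2 _ inf_le_left (h0.2.1.inf h1.2.1) with h | h
    · exact h
    · rcases h1.2.2 _ inf_le_right (h0.2.1.inf h1.2.1) with h' | h'
      · exact h'
      · exact absurd (h.symm.trans h') hne'
  have h2 := Submodule.finrank_sup_add_finrank_inf_eq W₀ W₁
  rw [hd, finrank_bot, add_zero, ← g.finrank_eq] at h2
  have h3 := Submodule.finrank_le (W₀ ⊔ W₁)
  omega

theorem index_centralizer_le (hreg : RegNZ H) (A : Subgroup H) [A.Normal] (hA : IsCyclic A)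
    {W₀ : Submodule (ZMod p) V} (h0 : Minimal (ops A) W₀) :
    (Subgroup.centralizer (A : Set H)).index ≤ Module.finrank (ZMod p) W₀ := by
  classical
  haveI := finite_group (H := H)
  obtain ⟨⟨a, ha⟩, hgen⟩ := hA.exists_generator
  have hpow : ∀ b ∈ A, ∃ e : ℕ, b = a ^ e := fun b hb => by
    obtain ⟨e, he⟩ := (isOfFinOrder_of_finite (⟨a, ha⟩ : A)).mem_powers_iff_mem_zpowers.mpr (hgen ⟨b, hb⟩)
    exact ⟨e, (congrArg Subtype.val he).symm⟩
  have hAc : ∀ x ∈ A, ∀ y ∈ A, x * y = y * x := fun x hx y hy => by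
    obtain ⟨e, rfl⟩ := hpow x hx
    obtain ⟨e', rfl⟩ := hpow y hy
    rw [← pow_add, ← pow_add, add_comm]
  obtain ⟨f, hf, hfv⟩ := exists_hom_commutant hreg A h0.2.1 h0.1 A h0.2.1 hAc
  set α : Module.End (ZMod p) W₀ := (f ⟨a, ha⟩).1
  set P := α.charpoly
  have hP : ∀ v : V, aeval (op a) P v = 0 := fun v => by
    obtain ⟨ι, ⟨w, rfl⟩, hι⟩ := exists_intertwine hreg A h0 v
    rw [← aeval_intertwine α (op a) ι (fun u => hι a ha u (α u) (hfv ⟨a, ha⟩ u)),
      LinearMap.aeval_self_charpoly, LinearMap.zero_apply, map_zero]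
  have hconj : ∀ h : H, h * a * h⁻¹ ∈ A := fun h => Subgroup.Normal.conj_mem ‹_› a ha h
  have hroot : ∀ h : H, aeval (f ⟨_, hconj h⟩) P = 0 := fun h => by
    refine Subtype.ext ?_
    rw [← Subalgebra.coe_val, ← aeval_algHom_apply]
    refine LinearMap.ext fun w => Subtype.ext ?_
    have h1 : (op h : V →ₗ[ZMod p] V) ∘ₗ (op h⁻¹) = LinearMap.id :=
      LinearMap.ext fun u => op_inv_apply h u
    have h2 := aeval_intertwine ((commutant (ops A) W₀).val (f ⟨_, hconj h⟩)) (op (h * a * h⁻¹)) W₀.subtype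
      (fun u => hfv ⟨_, hconj h⟩ u) P w
    have h3 := aeval_intertwine (op a) (op (h * a * h⁻¹)) (op h) (fun u => by
      rw [← Module.End.mul_apply, ← op_mul, ← Module.End.mul_apply, ← op_mul,
        inv_mul_cancel_right]) P (op h⁻¹ (w : V))
    rw [hP, map_zero, op_inv_apply] at h3
    exact h2.trans h3.symm
  letI : CommRing (commutant (ops A) W₀) :=
    { (inferInstance : Ring (commutant (ops A) W₀)) with mul_comm := commutant_comm h0 }
  haveI := commutant_noZeroDivisors h0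
  obtain ⟨w, hw, hw0⟩ := Submodule.exists_mem_ne_zero_of_ne_bot h0.1
  haveI : Nontrivial (commutant (ops A) W₀) := ⟨⟨1, 0, fun h => hw0 (by
    have := LinearMap.congr_fun (congrArg Subtype.val h) ⟨w, hw⟩
    exact congrArg Subtype.val this)⟩⟩
  haveI : IsDomain (commutant (ops A) W₀) := NoZeroDivisors.to_isDomain _
  let R := ((P.map (algebraMap (ZMod p) (commutant (ops A) W₀))).roots).toFinset
  have hP0 : P.map (algebraMap (ZMod p) (commutant (ops A) W₀)) ≠ 0 :=
    ((LinearMap.charpoly_monic α).map _).ne_zero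
  let Φ : H ⧸ Subgroup.centralizer (A : Set H) → R := fun q =>
    ⟨f ⟨_, hconj q.out⟩, by
      rw [Multiset.mem_toFinset, mem_roots hP0, IsRoot.def, eval_map, ← aeval_def]
      exact hroot _⟩
  have hΦ : Function.Injective Φ := fun q q' e => by
    have e1 : f ⟨_, hconj q.out⟩ = f ⟨_, hconj q'.out⟩ := congrArg Subtype.val e
    have e2 : q.out * a * q.out⁻¹ = q'.out * a * q'.out⁻¹ := congrArg Subtype.val (hf e1)
    rw [← q.out_eq', ← q'.out_eq', QuotientGroup.eq, Subgroup.mem_centralizer_iff]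
    intro b hb
    have hx : Commute (q.out⁻¹ * q'.out) a := by
      show q.out⁻¹ * q'.out * a = a * (q.out⁻¹ * q'.out)
      calc _ = q.out⁻¹ * (q'.out * a * q'.out⁻¹) * q'.out := by group
        _ = _ := by rw [← e2]; group
    obtain ⟨e, rfl⟩ := hpow b hb
    exact (hx.pow_right e).eq.symm
  calc (Subgroup.centralizer (A : Set H)).index = Nat.card (H ⧸ Subgroup.centralizer (A : Set H)) :=
        Subgroup.index_eq_card _
    _ ≤ Nat.card R := Nat.card_le_card_of_injective Φ hΦ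
    _ ≤ _ := by
      rw [Nat.card_eq_fintype_card, Fintype.card_coe]
      refine (Multiset.toFinset_card_le _).trans ((card_roots' _).trans ?_)
      rw [(LinearMap.charpoly_monic α).natDegree_map, LinearMap.charpoly_natDegree]

theorem centralizer_ne_self (hreg : RegNZ H) (hI : Exceptional H) (A : Subgroup H) [A.Normal]
    (hA : ∀ a ∈ A, ∀ b ∈ A, a * b = b * a) : Subgroup.centralizer (A : Set H) ≠ A := by
  intro hC
  obtain ⟨W₀, h0, hne⟩ := exists_reducible_minimal hreg hI A hA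
  obtain ⟨w, hw, hw0⟩ := Submodule.exists_mem_ne_zero_of_ne_bot h0.1
  haveI : Nontrivial V := ⟨⟨w, 0, hw0⟩⟩
  haveI := finite_group (H := H)
  set k := Module.finrank (ZMod p) W₀
  have hidx : A.index ≤ k := by
    have := index_centralizer_le hreg A (isCyclic_of_comm hreg A hA) h0
    rwa [hC] at this
  have hk : 1 ≤ k := by
    haveI : Nontrivial W₀ := ⟨⟨⟨w, hw⟩, 0, fun e => hw0 (congrArg Subtype.val e)⟩⟩
    exact Module.finrank_pos
  have hp : 1 < p := (Fact.out : p.Prime).one_lt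
  have hq : 2 ≤ p ^ k := le_trans (by omega) (Nat.le_self_pow (by omega) p)
  have hA' : Nat.card A ≤ p ^ k - 1 :=
    Nat.le_of_dvd (by omega) (card_dvd_pow_finrank_sub_one hreg A h0.2.1)
  have hn := two_mul_finrank_le hreg A h0 hne
  have hH := natCard_group (H := H) hreg
  have h1 : p ^ (2 * k) ≤ p ^ Module.finrank (ZMod p) V := Nat.pow_le_pow_right (by omega) hn
  have h2 : Nat.card H ≤ (p ^ k - 1) * k := by
    rw [← A.card_mul_index]
    exact Nat.mul_le_mul hA' hidx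
  have h3 : k < p ^ k := Nat.lt_pow_self hp
  rw [two_mul, pow_add] at h1
  obtain ⟨r, hr⟩ : ∃ r, p ^ k = r + 2 := ⟨p ^ k - 2, by omega⟩
  rw [hr] at h1 h2 h3
  have h4 : Nat.card H + 1 = p ^ Module.finrank (ZMod p) V := by
    have : 1 ≤ p ^ Module.finrank (ZMod p) V := Nat.one_le_pow _ _ (by omega)
    omega
  rw [show r + 2 - 1 = r + 1 from rfl] at h2
  nlinarith

theorem centralizer_spec (hreg : RegNZ H) (hI : Exceptional H) (A : Subgroup H) [A.Normal]
    (hA : IsMulCommutative A)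
    (hmax : ∀ B : Subgroup H, B.Normal → IsMulCommutative B → A ≤ B → B = A) :
    A < Subgroup.centralizer (A : Set H) ∧ ¬ IsMulCommutative (Subgroup.centralizer (A : Set H)) := by
  have hA' := comm_of_isMulCommutative hA
  have hle : A ≤ Subgroup.centralizer (A : Set H) := fun x hx =>
    Subgroup.mem_centralizer_iff.mpr fun y hy => hA' y hy x hx
  have hne := centralizer_ne_self hreg hI A hA'
  exact ⟨lt_of_le_of_ne hle (Ne.symm hne), fun hc => hne (hmax _ inferInstance hc hle)⟩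

end Cfsg.Agent.PermGp.NFLin
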