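import Mathlib.GroupTheory.Nilpotent
import Mathlib.GroupTheory.Sylow
import Mathlib.GroupTheory.SpecificGroups.Quaternion
import Mathlib.GroupTheory.Abelianization.Defs
import Cfsg.Agent.Lib.InvChar.OneSubgroup
import Cfsg.Agent.Lib.PermGp.NearFieldLinear.Abelian

/-! Non-abelian normal subgroups of linear groups regular on the non-zero vectors. -/

set_option autoImplicit false
set_option linter.unusedSectionVars false

namespace Cfsg.Agent.PermGp.NFLin

variable {p : ℕ} [Fact p.Prime] {V : Type*} [AddCommGroup V] [Module (ZMod p) V] [Finite V]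
  {H : Subgroup (V ≃ₗ[ZMod p] V)}

theorem nontrivial_of_noncomm (N : Subgroup H) (hna : ¬ IsMulCommutative N) : Nontrivial V := by
  by_contra hV
  haveI := not_nontrivial_iff_subsingleton.mp hV
  exact hna (isMulCommutative_iff.mpr fun a b =>
    Subtype.ext (Subtype.ext (LinearEquiv.ext fun v => Subsingleton.elim _ _)))

theorem centralizer_noncomm_eq (hreg : RegNZ H) (A : Subgroup H) [A.Normal] (hA : IsMulCommutative A)
    (hmax : ∀ B : Subgroup H, B.Normal → IsMulCommutative B → A ≤ B → B = A)
    (N : Subgroup H) [N.Normal] (hle : N ≤ Subgroup.centralizer (A : Set H))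
    (hna : ¬ IsMulCommutative N) : Subgroup.centralizer (N : Set H) = A := by
  haveI := nontrivial_of_noncomm N hna
  have hcyc : IsCyclic (Subgroup.centralizer (N : Set H)) :=
    isCyclic_of_minimal hreg N
      (minimal_top (irreducible_of_noncomm hreg N fun h => hna (isMulCommutative_of_comm h)))
      _ (inv_top _) (fun k hk b hb => (Subgroup.mem_centralizer_iff.mp hk b hb).symm)
  exact hmax _ inferInstance (isMulCommutative_iff.mpr fun a b => by
    letI := hcyc.commGroup
    exact mul_comm a b) (Subgroup.le_centralizer_iff.mp hle)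

theorem le_of_comm_normal (A : Subgroup H) [A.Normal] (hA : IsMulCommutative A)
    (hmax : ∀ B : Subgroup H, B.Normal → IsMulCommutative B → A ≤ B → B = A)
    (M : Subgroup H) [M.Normal] (hM : IsMulCommutative M)
    (hle : M ≤ Subgroup.centralizer (A : Set H)) : M ≤ A := by
  have hA' := comm_of_isMulCommutative hA
  have hM' := comm_of_isMulCommutative hM
  have h1 : A ≤ Subgroup.centralizer ((M ⊔ A : Subgroup H) : Set H) := by
    rw [Subgroup.le_centralizer_iff]
    exact sup_le hle fun x hx => Subgroup.mem_centralizer_iff.mpr fun y hy => hA' y hy x hx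
  have h2 : M ≤ Subgroup.centralizer ((M ⊔ A : Subgroup H) : Set H) := by
    rw [Subgroup.le_centralizer_iff]
    exact sup_le (fun x hx => Subgroup.mem_centralizer_iff.mpr fun y hy => hM' y hy x hx)
      (Subgroup.le_centralizer_iff.mp hle)
  have h3 : IsMulCommutative (M ⊔ A : Subgroup H) := isMulCommutative_of_comm fun a ha b hb =>
    (Subgroup.mem_centralizer_iff.mp ((sup_le h2 h1) ha) b hb).symm
  have h4 := hmax _ inferInstance h3 le_sup_right
  exact le_sup_left.trans h4.le

theorem exists_nonabelian_minimal (K : Subgroup H) [hKn : K.Normal] (hK : ¬ IsMulCommutative K) :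
    ∃ N : Subgroup H, N.Normal ∧ N ≤ K ∧ ¬ IsMulCommutative N ∧
      ∀ M : Subgroup H, M.Normal → M ≤ N → ¬ IsMulCommutative M → M = N := by
  haveI := finite_group (H := H)
  have hfin : {N : Subgroup H | N.Normal ∧ N ≤ K ∧ ¬ IsMulCommutative N}.Finite := Set.toFinite _
  obtain ⟨N, hN, hmin⟩ := hfin.exists_minimalFor id _ ⟨K, hKn, le_rfl, hK⟩
  exact ⟨N, hN.1, hN.2.1, hN.2.2, fun M hM hle hMna =>
    le_antisymm hle (hmin ⟨hM, hle.trans hN.2.1, hMna⟩ hle)⟩

theorem mem_zpowers_of_pow_eq_one {G : Type*} [Group G] [Finite G] [IsCyclic G] {q : ℕ}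
    (hq : 0 < q) {s z : G} (hs : orderOf s = q) (hz : z ^ q = 1) : z ∈ Subgroup.zpowers s := by
  classical
  haveI := Fintype.ofFinite G
  have hsub : (Subgroup.zpowers s : Set G).toFinset ⊆ Finset.univ.filter (fun x : G => x ^ q = 1) := by
    intro x hx
    rw [Set.mem_toFinset] at hx
    obtain ⟨k, rfl⟩ := hx
    rw [Finset.mem_filter]
    refine ⟨Finset.mem_univ _, ?_⟩
    show (s ^ k) ^ q = 1
    rw [← zpow_natCast, ← zpow_mul, mul_comm, zpow_mul, zpow_natCast, ← hs, pow_orderOf_eq_one, one_zpow]
  have hcard : (Subgroup.zpowers s : Set G).toFinset.card = q := by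
    rw [Set.toFinset_card, ← Nat.card_eq_fintype_card]
    exact (Nat.card_zpowers s).trans hs
  have heq := Finset.eq_of_subset_of_card_le hsub
    ((IsCyclic.card_pow_eq_one_le hq).trans hcard.ge)
  have : z ∈ (Subgroup.zpowers s : Set G).toFinset := by
    rw [heq, Finset.mem_filter]
    exact ⟨Finset.mem_univ _, hz⟩
  exact Set.mem_toFinset.mp this

theorem quaternion_eight_of_class_two {n : ℕ}
    (hc : ∀ x y w : QuaternionGroup (2 ^ n), x * y * x⁻¹ * y⁻¹ * w = w * (x * y * x⁻¹ * y⁻¹)) :
    n ≤ 1 := by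
  have h := hc (QuaternionGroup.xa 0) (QuaternionGroup.a 1) (QuaternionGroup.xa 0)
  simp only [show (QuaternionGroup.xa 0 : QuaternionGroup (2 ^ n))⁻¹ =
      QuaternionGroup.xa ((2 ^ n : ℕ) + 0) from rfl,
    show (QuaternionGroup.a 1 : QuaternionGroup (2 ^ n))⁻¹ = QuaternionGroup.a (-1) from rfl,
    QuaternionGroup.xa_mul_a, QuaternionGroup.xa_mul_xa, QuaternionGroup.a_mul_a,
    QuaternionGroup.a_mul_xa, QuaternionGroup.xa.injEq] at h
  have hN : (((2 ^ n : ℕ) : ZMod (2 * 2 ^ n))) + ((2 ^ n : ℕ) : ZMod (2 * 2 ^ n)) = 0 := by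
    rw [← Nat.cast_add, ← two_mul, ZMod.natCast_self]
  have h4 : ((4 : ℕ) : ZMod (2 * 2 ^ n)) = 0 := by
    push_cast
    push_cast at h hN
    first
      | linear_combination h
      | linear_combination (-1 : ZMod (2 * 2 ^ n)) * h
      | linear_combination h + 2 * hN
      | linear_combination h - 2 * hN
      | linear_combination (-1 : ZMod (2 * 2 ^ n)) * h + 2 * hN
      | linear_combination (-1 : ZMod (2 * 2 ^ n)) * h - 2 * hN
  rw [ZMod.natCast_eq_zero_iff] at h4
  have h5 := Nat.le_of_dvd (by norm_num) h4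
  have h6 : 2 ^ n ≤ 2 ^ 1 := by omega
  exact (Nat.pow_le_pow_iff_right (by norm_num)).mp h6

/-- A minimal non-abelian normal subgroup centralising `A` that is not perfect is quaternion of
order eight. -/
theorem quaternion_of_not_perfect (hreg : RegNZ H) (A : Subgroup H) [A.Normal]
    (hA : IsMulCommutative A)
    (hmax : ∀ B : Subgroup H, B.Normal → IsMulCommutative B → A ≤ B → B = A)
    (N : Subgroup H) [N.Normal] (hle : N ≤ Subgroup.centralizer (A : Set H))
    (hna : ¬ IsMulCommutative N)
    (hmin : ∀ M : Subgroup H, M.Normal → M ≤ N → ¬ IsMulCommutative M → M = N)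
    (hperf : ⁅N, N⁆ ≠ N) : Nonempty (N ≃* QuaternionGroup 2) := by
  haveI := finite_group (H := H)
  have hDle : ⁅N, N⁆ ≤ N := Subgroup.commutator_le_right N N
  have hDA : ⁅N, N⁆ ≤ A := by
    haveI hDc : IsMulCommutative (⁅N, N⁆ : Subgroup H) := by
      by_contra hD
      exact hperf (hmin _ inferInstance hDle hD)
    exact le_of_comm_normal A hA hmax _ hDc (hDle.trans hle)
  have hcen : commutator N ≤ Subgroup.center N := by
    intro x hx
    have hxA : (x : H) ∈ A := hDA (by
      rw [← Subgroup.map_subtype_commutator]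
      exact ⟨x, hx, rfl⟩)
    rw [Subgroup.mem_center_iff]
    exact fun g => Subtype.ext (Subgroup.mem_centralizer_iff.mp (hle g.2) _ hxA).symm
  haveI hnil : Group.IsNilpotent N :=
    Subgroup.isNilpotent_of_ker_le_center (Abelianization.of (G := N))
      (by rw [Abelianization.ker_of]; exact hcen)
  -- a non-commutative Sylow subgroup
  obtain ⟨q, hq, P, hP⟩ : ∃ q, ∃ _ : Fact q.Prime, ∃ P : Sylow q N, ¬ IsMulCommutative P := by
    by_contra! hall
    obtain ⟨e⟩ := ((Group.isNilpotent_of_finite_tfae (G := N)).out 0 4).mp hnil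
    refine hna (isMulCommutative_iff.mpr fun a b => e.symm.injective ?_)
    rw [map_mul, map_mul]
    refine funext fun r => funext fun P => ?_
    haveI : Fact (r : ℕ).Prime := ⟨(Nat.mem_primeFactors.mp r.2).1⟩
    exact isMulCommutative_iff.mp (hall r ‹_› P) _ _
  haveI : (P : Subgroup N).Characteristic := P.characteristic_of_normal inferInstance
  haveI : ((P : Subgroup N).map N.subtype).Normal := ConjAct.normal_of_characteristic_of_normal
  have hPN : (P : Subgroup N).map N.subtype = N := hmin _ inferInstance (Subgroup.map_subtype_le _)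
    fun hc => hP (isMulCommutative_iff.mpr fun a b => Subtype.ext (Subtype.ext
      (comm_of_isMulCommutative hc _ ⟨a, a.2, rfl⟩ _ ⟨b, b.2, rfl⟩)))
  have hPtop : (P : Subgroup N) = ⊤ := Subgroup.map_injective N.subtype_injective (by
    rw [hPN, ← MonoidHom.range_eq_map, N.range_subtype])
  have hNq : IsPGroup q N := fun x => by
    obtain ⟨k, hk⟩ := P.isPGroup' ⟨x, by rw [hPtop]; trivial⟩
    exact ⟨k, congrArg Subtype.val hk⟩
  haveI : Nontrivial N := by
    by_contra hN
    haveI := not_nontrivial_iff_subsingleton.mp hN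
    exact hna (isMulCommutative_iff.mpr fun a b => Subsingleton.elim _ _)
  haveI := hNq.center_nontrivial
  obtain ⟨k, hk0, hk⟩ :=
    (hNq.to_subgroup (Subgroup.center N)).nontrivial_iff_card.mp inferInstance
  obtain ⟨z, hz⟩ := exists_prime_orderOf_dvd_card' (G := Subgroup.center N) q
    (hk ▸ dvd_pow_self q hk0.ne')
  have hqpos : 0 < q := (Fact.out : q.Prime).pos
  have key : ∀ x : N, x ^ q = 1 → x ∈ Subgroup.zpowers (z : N) := by
    intro x hx
    have hcx : Commute (z : N) x := (Subgroup.mem_center_iff.mp z.2 x).symm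
    let B : Subgroup H := Subgroup.closure {((z : N) : H), (x : H)}
    have hBc : ∀ a ∈ B, ∀ b ∈ B, a * b = b * a := by
      intro a ha b hb
      induction ha, hb using Subgroup.closure_induction₂ with
      | mem a b ha hb =>
        have hzx : ((z : N) : H) * (x : H) = (x : H) * ((z : N) : H) := congrArg Subtype.val hcx.eq
        rcases ha with rfl | rfl <;> rcases hb with rfl | rfl
        exacts [rfl, hzx, hzx.symm, rfl]
      | one_left => rw [one_mul, mul_one]
      | one_right => rw [one_mul, mul_one]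
      | mul_left a b c _ _ _ h1 h2 => exact (Commute.mul_left (a := a) (b := b) h1 h2).eq
      | mul_right a b c _ _ _ h1 h2 => exact (Commute.mul_right (a := c) h1 h2).eq
      | inv_left a b _ _ h => exact (Commute.inv_left (a := a) h).eq
      | inv_right a b _ _ h => exact (Commute.inv_right (b := b) h).eq
    haveI := isCyclic_of_comm hreg B hBc
    have hzB : ((z : N) : H) ∈ B := Subgroup.subset_closure (Or.inl rfl)
    have hxB : (x : H) ∈ B := Subgroup.subset_closure (Or.inr rfl)
    obtain ⟨m, hm⟩ := mem_zpowers_of_pow_eq_one hqpos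
      (s := (⟨_, hzB⟩ : B)) (z := ⟨_, hxB⟩) (q := q)
      (by rw [Subgroup.orderOf_mk, Subgroup.orderOf_coe, Subgroup.orderOf_coe, hz])
      (Subtype.ext (by rw [SubgroupClass.coe_pow]; exact congrArg Subtype.val hx))
    refine ⟨m, Subtype.ext ?_⟩
    have hm' := congrArg Subtype.val hm
    simp only [SubgroupClass.coe_zpow] at hm' ⊢
    exact hm'
  have huniq : ∀ S T : Subgroup N, Nat.card S = q → Nat.card T = q → S = T := by
    have h1 : ∀ S : Subgroup N, Nat.card S = q → S = Subgroup.zpowers (z : N) := by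
      intro S hS
      refine Subgroup.eq_of_le_of_card_ge (fun x hx => key x ?_) ?_
      · have : (⟨x, hx⟩ : S) ^ q = 1 := hS ▸ pow_card_eq_one'
        exact congrArg Subtype.val this
      · rw [hS, Nat.card_zpowers, Subgroup.orderOf_coe, hz]
    exact fun S T hS hT => (h1 S hS).trans (h1 T hT).symm
  rcases InvChar.cyclic_or_quaternion hNq huniq with hcyc | ⟨rfl, n, ⟨e⟩⟩
  · exact absurd (isMulCommutative_iff.mpr fun a b => by
      letI := hcyc.commGroup
      exact mul_comm a b) hna
  have hclass : ∀ x y w : QuaternionGroup (2 ^ n),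
      x * y * x⁻¹ * y⁻¹ * w = w * (x * y * x⁻¹ * y⁻¹) := by
    intro x y w
    apply e.symm.injective
    simp only [map_mul, map_inv]
    refine (Subgroup.mem_center_iff.mp (hcen ?_) (e.symm w)).symm
    rw [← commutatorElement_def, commutator_def]
    exact Subgroup.commutator_mem_commutator (Subgroup.mem_top _) (Subgroup.mem_top _)
  have hn := quaternion_eight_of_class_two hclass
  interval_cases n
  · refine absurd (isMulCommutative_iff.mpr fun a b => e.injective ?_) hna
    rw [map_mul, map_mul]
    exact IsPGroup.commutative_of_card_eq_prime_sq (p := 2)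
      (by rw [Nat.card_eq_fintype_card, QuaternionGroup.card]; rfl) _ _
  · exact ⟨e⟩

end Cfsg.Agent.PermGp.NFLin
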