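import Mathlib.GroupTheory.Solvable
import Mathlib.NumberTheory.Divisors
import Mathlib.FieldTheory.Finite.Basic
import Cfsg.Agent.Lib.PermGp.NearFieldLinear.Nonabelian

/-! Degrees of the soluble exceptional linear groups regular on the non-zero vectors. -/

set_option autoImplicit false
set_option linter.unusedSectionVars false

namespace Cfsg.Agent.PermGp.NFLin

theorem card_mulAut_quaternion_dvd : Nat.card (MulAut (QuaternionGroup 2)) ∣ 24 := by
  classical
  let X := {q : QuaternionGroup 2 × QuaternionGroup 2 // q.1 * q.2 ≠ q.2 * q.1}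
  letI : MulAction (MulAut (QuaternionGroup 2)) X :=
    { smul := fun e q => ⟨(e q.1.1, e q.1.2), by
        rw [← map_mul, ← map_mul]
        exact fun h => q.2 (e.injective h)⟩
      one_smul := fun q => rfl
      mul_smul := fun e e' q => rfl }
  have hfree : ∀ q : X, MulAction.stabilizer (MulAut (QuaternionGroup 2)) q = ⊥ := by
    intro q
    rw [Subgroup.eq_bot_iff_forall]
    intro e he
    have h := congrArg Subtype.val (MulAction.mem_stabilizer_iff.mp he)
    have h1 : e q.1.1 = q.1.1 := congrArg Prod.fst h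
    have h2 : e q.1.2 = q.1.2 := congrArg Prod.snd h
    let F : Subgroup (QuaternionGroup 2) :=
      e.toMonoidHom.eqLocus (MonoidHom.id (QuaternionGroup 2))
    have ha : q.1.1 ∈ F := h1
    have hb : q.1.2 ∈ F := h2
    have hdvd : Nat.card F ∣ 8 := by
      have := F.card_subgroup_dvd_card
      rwa [Nat.card_eq_fintype_card (α := QuaternionGroup 2), QuaternionGroup.card] at this
    have hnc : ∀ a b : F, (a : QuaternionGroup 2) = q.1.1 → (b : QuaternionGroup 2) = q.1.2 →
        a * b ≠ b * a := fun a b ea eb hab => q.2 (by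
      have := congrArg Subtype.val hab
      rwa [Subgroup.coe_mul, Subgroup.coe_mul, ea, eb] at this)
    have hF : F = ⊤ := by
      refine Subgroup.eq_top_of_card_eq F ?_
      rw [Nat.card_eq_fintype_card (α := QuaternionGroup 2), QuaternionGroup.card]
      obtain ⟨i, hi, hFi⟩ := (Nat.dvd_prime_pow Nat.prime_two).mp (show Nat.card F ∣ 2 ^ 3 from hdvd)
      interval_cases i
      · exfalso
        haveI : Subsingleton F := (Nat.card_eq_one_iff_unique.mp (by simpa using hFi)).1
        exact hnc ⟨_, ha⟩ ⟨_, hb⟩ rfl rfl (Subsingleton.elim _ _)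
      · exfalso
        haveI : Fact (Nat.Prime 2) := ⟨Nat.prime_two⟩
        haveI : IsCyclic F := isCyclic_of_prime_card (p := 2) (by simpa using hFi)
        letI := ‹IsCyclic F›.commGroup
        exact hnc ⟨_, ha⟩ ⟨_, hb⟩ rfl rfl (mul_comm _ _)
      · exfalso
        haveI : Fact (Nat.Prime 2) := ⟨Nat.prime_two⟩
        exact hnc ⟨_, ha⟩ ⟨_, hb⟩ rfl rfl (IsPGroup.commutative_of_card_eq_prime_sq (p := 2) hFi _ _)
      · simpa using hFi
    refine MulEquiv.ext fun x => ?_
    have : x ∈ F := hF ▸ Subgroup.mem_top x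
    exact this
  have hcard : Nat.card X = 24 := by
    rw [Nat.card_eq_fintype_card]
    decide +kernel
  rw [← hcard, Nat.card_congr (MulAction.selfEquivOrbitsQuotientProd hfree), Nat.card_prod]
  exact Dvd.intro_left _ rfl

theorem zmod_three_mul_self_ne : ∀ c : ZMod 3, c * c ≠ -1 := by decide

variable {p : ℕ} [Fact p.Prime] {V : Type*} [AddCommGroup V] [Module (ZMod p) V] [Finite V]
  {H : Subgroup (V ≃ₗ[ZMod p] V)}

theorem quaternion_data (hreg : RegNZ H) (hI : Exceptional H) (A : Subgroup H) [A.Normal]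
    (hAc : IsMulCommutative A)
    (hmax : ∀ B : Subgroup H, B.Normal → IsMulCommutative B → A ≤ B → B = A)
    (N : Subgroup H) [N.Normal] (hle : N ≤ Subgroup.centralizer (A : Set H))
    (hna : ¬ IsMulCommutative N) (e : N ≃* QuaternionGroup 2) :
    Module.finrank (ZMod p) V = 2 ∧ A.index ∣ 24 ∧ Nat.card A ∣ p - 1 ∧ p ≠ 2 ∧ p ≠ 3 ∧ p + 1 ∣ 24 := by
  classical
  haveI := finite_group (H := H)
  haveI := nontrivial_of_noncomm N hna
  have hC : Subgroup.centralizer (N : Set H) = A := centralizer_noncomm_eq hreg A hAc hmax N hle hna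
  -- the generators
  let f : QuaternionGroup 2 →* H := N.subtype.comp e.symm.toMonoidHom
  have hf : Function.Injective f := N.subtype_injective.comp e.symm.injective
  have hfr : ∀ n ∈ N, ∃ q, f q = n := fun n hn => ⟨e ⟨n, hn⟩, by
    show ((e.symm (e ⟨n, hn⟩) : N) : H) = n
    rw [e.symm_apply_apply]⟩
  let I := op (f (QuaternionGroup.a 1))
  let J := op (f (QuaternionGroup.xa 0))
  have hz : ∀ v : V, op (f (QuaternionGroup.a 2)) v = -v := fun v => by
    by_contra hne
    have h0 : op (f (QuaternionGroup.a 2)) v + v ≠ 0 := fun h => hne (eq_neg_of_add_eq_zero_left h)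
    have hfix : op (f (QuaternionGroup.a 2)) (op (f (QuaternionGroup.a 2)) v + v) =
        op (f (QuaternionGroup.a 2)) v + v := by
      rw [map_add, ← Module.End.mul_apply, ← op_mul, ← map_mul,
        show (QuaternionGroup.a 2 * QuaternionGroup.a 2 : QuaternionGroup 2) = 1 by decide,
        map_one, op_one, Module.End.one_apply, add_comm]
    have h1 := eq_one_of_fixed hreg h0 hfix
    rw [← map_one f] at h1
    exact absurd (hf h1) (by decide)
  have hII : ∀ v, I (I v) = -v := fun v => by
    rw [← Module.End.mul_apply, ← op_mul, ← map_mul]; exact hz v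
  have hJJ : ∀ v, J (J v) = -v := fun v => by
    rw [← Module.End.mul_apply, ← op_mul, ← map_mul,
      show (QuaternionGroup.xa 0 * QuaternionGroup.xa 0 : QuaternionGroup 2) = QuaternionGroup.a 2 by decide]
    exact hz v
  have hJI : ∀ v, J (I v) = -(I (J v)) := fun v => by
    rw [← hz (I (J v)), ← Module.End.mul_apply, ← op_mul, ← map_mul, ← Module.End.mul_apply,
      ← op_mul, ← map_mul, ← Module.End.mul_apply, ← op_mul, ← map_mul]
    rfl
  have hp2 : p ≠ 2 := by
    rintro rfl
    obtain ⟨v, hv⟩ := exists_ne (0 : V)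
    have h1 : op (f (QuaternionGroup.a 2)) v = v := by
      rw [hz]
      have : (-1 : ZMod 2) = 1 := rfl
      rw [← neg_one_smul (ZMod 2) v, this, one_smul]
    have h2 := eq_one_of_fixed hreg hv h1
    rw [← map_one f] at h2
    exact absurd (hf h2) (by decide)
  have hsub : ∀ W : Submodule (ZMod p) V, (∀ v ∈ W, I v ∈ W) → (∀ v ∈ W, J v ∈ W) →
      W = ⊥ ∨ W = ⊤ := by
    intro W hWI hWJ
    refine irreducible_of_noncomm hreg N (fun h => hna (isMulCommutative_of_comm h)) W ?_
    rintro _ ⟨n, hn, rfl⟩ v hv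
    obtain ⟨q, rfl⟩ := hfr n hn
    have hgen : ∀ q : QuaternionGroup 2, ∃ i : Fin 4, ∃ j : Fin 2,
        QuaternionGroup.a 1 ^ (i : ℕ) * QuaternionGroup.xa 0 ^ (j : ℕ) = q := by decide
    obtain ⟨i, j, rfl⟩ := hgen q
    rw [map_mul, map_pow, map_pow, op_mul, op_pow, op_pow, Module.End.mul_apply]
    have hp : ∀ (T : Module.End (ZMod p) V), (∀ v ∈ W, T v ∈ W) → ∀ (k : ℕ), ∀ v ∈ W, (T ^ k) v ∈ W := by
      intro T hT k
      induction k with
      | zero => exact fun v hv => hv
      | succ k ih =>
        intro v hv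
        rw [pow_succ, Module.End.mul_apply]
        exact ih _ (hT v hv)
    exact hp I hWI _ _ (hp J hWJ _ v hv)
  -- the dimension
  obtain ⟨a, b, hab⟩ := ZMod.sq_add_sq p (-1)
  let x : Module.End (ZMod p) V := a • I + b • J
  let y : Module.End (ZMod p) V := b • I - a • J
  have hxv : ∀ v, x v = a • I v + b • J v := fun v => rfl
  have hyv : ∀ v, y v = b • I v - a • J v := fun v => rfl
  have hxx : ∀ v, x (x v) = v := fun v => by
    simp only [hxv, map_add, map_smul, hII, hJJ, hJI]
    match_scalars <;> first | linear_combination (-1 : ZMod p) * hab | ring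
  have hyy : ∀ v, y (y v) = v := fun v => by
    simp only [hyv, map_sub, map_smul, hII, hJJ, hJI]
    match_scalars <;> first | linear_combination (-1 : ZMod p) * hab | ring
  have hxy : ∀ v, x (y v) = -(y (x v)) := fun v => by
    simp only [hxv, hyv, map_add, map_sub, map_smul, hII, hJJ, hJI]
    match_scalars <;> ring
  have hIxy : ∀ v, I v = -(a • x v + b • y v) := fun v => by
    simp only [hxv, hyv]
    match_scalars <;> first | linear_combination hab | ring
  have hJxy : ∀ v, J v = -(b • x v - a • y v) := fun v => by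
    simp only [hxv, hyv]
    match_scalars <;> first | linear_combination hab | ring
  obtain ⟨w, hw⟩ := exists_ne (0 : V)
  obtain ⟨v, hv, s, hs⟩ : ∃ v : V, v ≠ 0 ∧ ∃ s : ZMod p, x v = s • v := by
    by_cases h : w + x w = 0
    · exact ⟨w, hw, -1, by rw [neg_one_smul]; exact eq_neg_of_add_eq_zero_right h⟩
    · exact ⟨w + x w, h, 1, by rw [one_smul, map_add, hxx, add_comm]⟩
  let W := Submodule.span (ZMod p) ({v, y v} : Set V)
  have hvW : v ∈ W := Submodule.subset_span (Or.inl rfl)
  have hyW : y v ∈ W := Submodule.subset_span (Or.inr rfl)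
  have hx : ∀ u ∈ W, x u ∈ W := by
    intro u hu
    obtain ⟨c, d, rfl⟩ := Submodule.mem_span_pair.mp hu
    rw [map_add, map_smul, map_smul, hs, hxy, hs, map_smul]
    exact W.add_mem (W.smul_mem _ (W.smul_mem _ hvW)) (W.smul_mem _ (W.neg_mem (W.smul_mem _ hyW)))
  have hy : ∀ u ∈ W, y u ∈ W := by
    intro u hu
    obtain ⟨c, d, rfl⟩ := Submodule.mem_span_pair.mp hu
    rw [map_add, map_smul, map_smul, hyy]
    exact W.add_mem (W.smul_mem _ hyW) (W.smul_mem _ hvW)
  have hWtop : W = ⊤ := (hsub W
    (fun u hu => by rw [hIxy]; exact W.neg_mem (W.add_mem (W.smul_mem _ (hx u hu)) (W.smul_mem _ (hy u hu))))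
    (fun u hu => by rw [hJxy]; exact W.neg_mem (W.sub_mem (W.smul_mem _ (hx u hu)) (W.smul_mem _ (hy u hu))))
    ).resolve_left (fun h => hv (by rwa [h, Submodule.mem_bot] at hvW))
  have hdim : Module.finrank (ZMod p) V = 2 := by
    have h2 : Module.finrank (ZMod p) V ≤ 2 := by
      rw [← finrank_top (ZMod p) V, ← hWtop]
      refine (finrank_span_le_card ({v, y v} : Set V)).trans ?_
      rw [Set.toFinset_card]
      exact (Fintype.card_eq.mpr ⟨Equiv.refl _⟩).le.trans (by
        rw [← Set.toFinset_card, Set.toFinset_insert, Set.toFinset_singleton]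
        exact Finset.card_le_two)
    have h1 : Module.finrank (ZMod p) V ≠ 1 := by
      intro h1
      refine hna (isMulCommutative_iff.mpr fun g g' => Subtype.ext ?_)
      obtain ⟨u, hu, hspan⟩ := finrank_eq_one_iff'.mp h1
      obtain ⟨c, hc⟩ := hspan (op (g : H) u)
      obtain ⟨c', hc'⟩ := hspan (op (g' : H) u)
      refine eq_of_apply_eq hreg hu ?_
      show op ((g : H) * (g' : H)) u = op ((g' : H) * (g : H)) u
      rw [op_mul, op_mul, Module.End.mul_apply, Module.End.mul_apply, ← hc, ← hc', map_smul,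
        map_smul, ← hc, ← hc', smul_smul, smul_smul, mul_comm]
    have h0 : 0 < Module.finrank (ZMod p) V := Module.finrank_pos
    omega
  -- the order
  obtain ⟨W₀, h0, hne⟩ := exists_reducible_minimal hreg hI A (comm_of_isMulCommutative hAc)
  have hk : Module.finrank (ZMod p) W₀ ≤ 1 := by
    have := two_mul_finrank_le hreg A h0 hne
    omega
  have hk' : Module.finrank (ZMod p) W₀ = 1 := by
    obtain ⟨u, hu, hu0⟩ := Submodule.exists_mem_ne_zero_of_ne_bot h0.1
    haveI : Nontrivial W₀ := ⟨⟨⟨u, hu⟩, 0, fun e => hu0 (congrArg Subtype.val e)⟩⟩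
    have : 0 < Module.finrank (ZMod p) W₀ := Module.finrank_pos
    omega
  have hAdvd : Nat.card A ∣ p - 1 := by
    simpa [hk'] using card_dvd_pow_finrank_sub_one hreg A h0.2.1
  have hidx : A.index ∣ 24 := by
    let φ : H →* MulAut N := MulAut.conjNormal
    have hker : φ.ker = A := by
      rw [← hC]
      ext g
      rw [MonoidHom.mem_ker, Subgroup.mem_centralizer_iff, MulEquiv.ext_iff]
      constructor
      · intro h n hn
        have := congrArg Subtype.val (h ⟨n, hn⟩)
        rw [MulAut.conjNormal_apply, MulAut.one_apply, mul_inv_eq_iff_eq_mul] at this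
        exact this.symm
      · intro h n
        refine Subtype.ext ?_
        rw [MulAut.conjNormal_apply, MulAut.one_apply, mul_inv_eq_iff_eq_mul]
        exact (h n n.2).symm
    rw [← hker, Subgroup.index_ker]
    refine (Subgroup.card_subgroup_dvd_card _).trans ?_
    rw [Nat.card_congr (MulAut.congr e).toEquiv]
    exact card_mulAut_quaternion_dvd
  have hH : Nat.card H = p ^ 2 - 1 := hdim ▸ natCard_group hreg
  have hp : 2 ≤ p := (Fact.out : p.Prime).two_le
  have hp1 : p + 1 ∣ 24 := by
    refine Nat.dvd_of_mul_dvd_mul_left (show 0 < p - 1 by omega) ?_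
    rw [show (p - 1) * (p + 1) = p ^ 2 - 1 by rw [mul_comm, ← Nat.sq_sub_sq, one_pow], ← hH,
      ← A.card_mul_index]
    exact mul_dvd_mul hAdvd hidx
  have hle24 := Nat.le_of_dvd (by norm_num) hp1
  have hp' := (Fact.out : p.Prime)
  have hp3 : p ≠ 3 := by
    rintro rfl
    have hN8 : Nat.card N = 8 := by
      rw [Nat.card_congr e.toEquiv, Nat.card_eq_fintype_card, QuaternionGroup.card]
    have hN : N = ⊤ := Subgroup.eq_top_of_card_eq N (by rw [hN8, hH]; norm_num)
    let Z := Subgroup.zpowers (f (QuaternionGroup.a 1))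
    have hZn : Z.Normal := by
      refine ⟨fun z hz g => ?_⟩
      obtain ⟨m, rfl⟩ := hz
      obtain ⟨q, rfl⟩ := hfr g (hN ▸ Subgroup.mem_top g)
      show f q * f (QuaternionGroup.a 1) ^ m * (f q)⁻¹ ∈ Z
      rw [← map_zpow, ← map_inv, ← map_mul, ← map_mul]
      show f _ ∈ Subgroup.zpowers (f (QuaternionGroup.a 1))
      rw [← MonoidHom.map_zpowers]
      refine ⟨_, ?_, rfl⟩
      have hn : ∀ q : QuaternionGroup 2, ∃ i : Fin 4,
          q * QuaternionGroup.a 1 * q⁻¹ = QuaternionGroup.a 1 ^ (i : ℕ) := by decide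
      obtain ⟨i, hi⟩ := hn q
      rw [← conj_zpow, hi, ← zpow_natCast, ← zpow_mul]
      exact ⟨_, rfl⟩
    obtain ⟨W', hW0, hW1, hW'⟩ := hI Z hZn inferInstance
    obtain ⟨u, hu, hu0⟩ := Submodule.exists_mem_ne_zero_of_ne_bot hW0
    have hd : Module.finrank (ZMod 3) W' = 1 := by
      have h1 := Submodule.finrank_lt hW1
      haveI : Nontrivial W' := ⟨⟨⟨u, hu⟩, 0, fun e => hu0 (congrArg Subtype.val e)⟩⟩
      have : 0 < Module.finrank (ZMod 3) W' := Module.finrank_pos
      omega
    obtain ⟨c, hc⟩ := exists_smul_eq_of_finrank_eq_one hd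
      (x := (⟨u, hu⟩ : W')) (fun e => hu0 (congrArg Subtype.val e))
      ⟨_, hW' _ (Subgroup.mem_zpowers _) u hu⟩
    have hc' : c • u = I u := congrArg Subtype.val hc
    have h2 := hII u
    rw [← hc', map_smul, ← hc', smul_smul, ← neg_one_smul (ZMod 3) u] at h2
    have h3 := smul_left_injective (ZMod 3) hu0 h2
    exact absurd h3 (zmod_three_mul_self_ne c)
  exact ⟨hdim, hidx, hAdvd, hp2, hp3, hp1⟩

theorem degrees_of_solvable (hreg : RegNZ H) (hI : Exceptional H) (hsolv : Group.IsSolvable H) :
    Nat.card V = 25 ∨ Nat.card V = 49 ∨ Nat.card V = 121 ∨ Nat.card V = 529 := by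
  classical
  haveI := finite_group (H := H)
  haveI := hsolv
  have hfinA : {B : Subgroup H | B.Normal ∧ IsMulCommutative B}.Finite := Set.toFinite _
  obtain ⟨A, ⟨hAn, hAc⟩, hmax'⟩ := hfinA.exists_maximalFor id _
    ⟨(⊥ : Subgroup H), inferInstance, isMulCommutative_iff.mpr fun a b => Subsingleton.elim _ _⟩
  have hmax : ∀ B : Subgroup H, B.Normal → IsMulCommutative B → A ≤ B → B = A := fun B hB hBc hle =>
    le_antisymm (hmax' ⟨hB, hBc⟩ hle) hle
  haveI := hAn
  obtain ⟨-, hCna⟩ := centralizer_spec hreg hI A hAc hmax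
  obtain ⟨N, hNn, hle, hna, hmin⟩ := exists_nonabelian_minimal _ hCna
  haveI := hNn
  haveI := nontrivial_of_noncomm N hna
  have hperf : ⁅N, N⁆ ≠ N := by
    intro hperf
    haveI : Nontrivial N := by
      by_contra hN
      haveI := not_nontrivial_iff_subsingleton.mp hN
      exact hna (isMulCommutative_iff.mpr fun a b => Subsingleton.elim _ _)
    haveI : Group.IsSolvable N := inferInstance
    refine (Group.IsSolvable.commutator_lt_top_of_nontrivial N).ne
      (Subgroup.map_injective N.subtype_injective ?_)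
    rw [Subgroup.map_subtype_commutator, hperf, ← MonoidHom.range_eq_map, N.range_subtype]
  obtain ⟨e⟩ := quaternion_of_not_perfect hreg A hAc hmax N hle hna hmin hperf
  obtain ⟨hdim, -, -, hp2, hp3, hp1⟩ := quaternion_data hreg hI A hAc hmax N hle hna e
  have hcardV : Nat.card V = p ^ 2 := hdim ▸ natCard_space
  have hle24 := Nat.le_of_dvd (by norm_num) hp1
  have hp' := (Fact.out : p.Prime)
  have hp : 2 ≤ p := hp'.two_le
  have hp23 : p ≤ 23 := by omega
  interval_cases p
  all_goals first
    | omega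
    | exact absurd hp' (by norm_num)
    | (exfalso; revert hp1; norm_num; done)
    | (rw [hcardV]; norm_num; done)

end Cfsg.Agent.PermGp.NFLin
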